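import Mathlib
import Cfsg.Prelude.Def_Solvable
import Cfsg.Agent.Lib.PSolvable.HallHigman
import Cfsg.Agent.Lib.PSolvable.PSolv
import Cfsg.Agent.Lib.PGroup.Critical
import Cfsg.Agent.Lib.MinimalNormal

/-!
Solvable groups with `O(G) = 1` and a single class of at least two involutions: the involutions form,
with `1`, a normal elementary abelian subgroup `U`, and an odd `p`-group normalising a Sylow 2-subgroup
fixes nothing in `U`.
-/

set_option autoImplicit false

namespace Cfsg.Agent.Lib.InvolutionsConj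

open Cfsg Subgroup

universe u

variable {G : Type u} [Group G] [Finite G]

/-- The standing hypotheses. -/
structure Hyp (G : Type u) [Group G] : Prop where
  solv : Group.IsSolvable G
  core : pPrimeCore 2 G = ⊥
  two : ∃ x y : G, x ≠ y ∧ x ≠ 1 ∧ x ^ 2 = 1 ∧ y ≠ 1 ∧ y ^ 2 = 1
  conj : ∀ x y : G, x ≠ 1 → x ^ 2 = 1 → y ≠ 1 → y ^ 2 = 1 → IsConj x y

theorem eq_one_of_coprime_pow {M : Type*} [Group M] {x : M} {a b : ℕ} (hab : a.Coprime b)
    (ha : x ^ a = 1) (hb : x ^ b = 1) : x = 1 := by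
  rw [← pow_one x, ← hab.gcd_eq_one]
  exact pow_gcd_eq_one.2 ⟨ha, hb⟩

/-- The central elements of `O_2(G)` of exponent two. -/
def invSubgroup (G : Type u) [Group G] : Subgroup G where
  carrier := {x | x ∈ pCore 2 G ∧ (∀ t ∈ pCore 2 G, t * x = x * t) ∧ x ^ 2 = 1}
  one_mem' := ⟨one_mem _, fun t _ => by simp, one_pow 2⟩
  mul_mem' := fun {a b} ha hb => by
    refine ⟨mul_mem ha.1 hb.1, fun t ht => ?_, ?_⟩
    · exact ((show Commute t a from ha.2.1 t ht).mul_right (hb.2.1 t ht)).eq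
    · rw [(show Commute a b from hb.2.1 a ha.1).mul_pow, ha.2.2, hb.2.2, one_mul]
  inv_mem' := fun {a} ha => by
    refine ⟨inv_mem ha.1, fun t ht => ?_, ?_⟩
    · exact ((show Commute t a from ha.2.1 t ht).inv_right).eq
    · rw [inv_pow, ha.2.2, inv_one]

theorem mem_invSubgroup {x : G} : x ∈ invSubgroup G ↔
    x ∈ pCore 2 G ∧ (∀ t ∈ pCore 2 G, t * x = x * t) ∧ x ^ 2 = 1 := Iff.rfl

theorem invSubgroup_sq {x : G} (hx : x ∈ invSubgroup G) : x ^ 2 = 1 := hx.2.2

instance invSubgroup_normal : (invSubgroup G).Normal := by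
  haveI := PSolvable.pCore_characteristic (p := 2) (G := G)
  have hn : (pCore 2 G).Normal := inferInstance
  refine ⟨fun x hx g => ⟨hn.conj_mem x hx.1 g, fun t ht => ?_, ?_⟩⟩
  · have h := hx.2.1 (g⁻¹ * t * g) (by simpa using hn.conj_mem t ht g⁻¹)
    calc t * (g * x * g⁻¹) = g * (g⁻¹ * t * g * x) * g⁻¹ := by group
      _ = g * (x * (g⁻¹ * t * g)) * g⁻¹ := by rw [h]
      _ = g * x * g⁻¹ * t := by group
  · rw [conj_pow, hx.2.2, mul_one, mul_inv_cancel]

theorem isPGroup_invSubgroup : IsPGroup 2 (invSubgroup G) :=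
  fun x => ⟨1, Subtype.ext (by rw [pow_one]; exact x.2.2.2)⟩

theorem exists_mem_invSubgroup (h : Hyp G) : ∃ x ∈ invSubgroup G, x ≠ 1 := by
  haveI : Fact (Nat.Prime 2) := ⟨Nat.prime_two⟩
  haveI : Nontrivial G := by
    obtain ⟨x, y, hxy, -⟩ := h.two
    exact ⟨x, y, hxy⟩
  haveI := h.solv
  have hT : pCore 2 G ≠ ⊥ :=
    (PSolvable.pCore_ne_bot_or_pPrimeCore_ne_bot (PSolvable.isPSolvable_of_isSolvable)).resolve_right
      (not_not.2 h.core)
  have h2 : IsPGroup 2 (pCore 2 G) := PSolvable.pCore_isPGroup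
  haveI : Nontrivial (pCore 2 G) := (Subgroup.nontrivial_iff_ne_bot _).2 hT
  haveI := h2.center_nontrivial
  obtain ⟨n, hn0, hn⟩ := (h2.to_subgroup (center (pCore 2 G))).nontrivial_iff_card.mp inferInstance
  obtain ⟨⟨z, hz⟩, hz2⟩ := exists_prime_orderOf_dvd_card' (G := center (pCore 2 G)) 2
    (hn ▸ dvd_pow_self 2 hn0.ne')
  rw [Subgroup.orderOf_mk] at hz2
  refine ⟨z, ⟨z.2, fun t ht => congrArg Subtype.val (mem_center_iff.1 hz ⟨t, ht⟩), ?_⟩, ?_⟩
  · have h2z : z ^ 2 = 1 := by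
      have := pow_orderOf_eq_one z
      rwa [hz2] at this
    exact congrArg Subtype.val h2z
  · intro h1
    have : z = 1 := Subtype.ext h1
    rw [this, orderOf_one] at hz2
    omega

/-- Every element of exponent two lies in `U`. -/
theorem mem_of_sq (h : Hyp G) {x : G} (hx : x ^ 2 = 1) : x ∈ invSubgroup G := by
  by_cases hx1 : x = 1
  · rw [hx1]; exact one_mem _
  obtain ⟨z, hz, hz1⟩ := exists_mem_invSubgroup h
  obtain ⟨g, hg⟩ := isConj_iff.1 (h.conj z x hz1 hz.2.2 hx1 hx)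
  rw [← hg]
  exact (invSubgroup_normal).conj_mem z hz g

/-- A normal subgroup meeting `U` contains it. -/
theorem le_of_normal (h : Hyp G) {N : Subgroup G} [hN : N.Normal] {u : G} (hu : u ∈ invSubgroup G)
    (hu1 : u ≠ 1) (huN : u ∈ N) : invSubgroup G ≤ N := by
  intro x hx
  by_cases hx1 : x = 1
  · rw [hx1]; exact one_mem _
  obtain ⟨g, hg⟩ := isConj_iff.1 (h.conj u x hu1 hu.2.2 hx1 hx.2.2)
  rw [← hg]
  exact hN.conj_mem u huN g

/-- A nontrivial subgroup of 2-power order meets `U`. -/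
theorem exists_involution_pow (h : Hyp G) {x : G} (hx1 : x ≠ 1) (hx : ∃ k : ℕ, x ^ 2 ^ k = 1) :
    ∃ j : ℕ, x ^ 2 ^ j ≠ 1 ∧ x ^ 2 ^ j ∈ invSubgroup G ∧ x ^ 2 ^ (j + 1) = 1 := by
  classical
  have hex : ∃ k : ℕ, x ^ 2 ^ k = 1 := hx
  have h0 : Nat.find hex ≠ 0 := fun e => hx1 (by simpa [e] using Nat.find_spec hex)
  obtain ⟨j, hj⟩ := Nat.exists_eq_succ_of_ne_zero h0
  have h1 : x ^ 2 ^ j ≠ 1 := Nat.find_min hex (by omega)
  have h2 : x ^ 2 ^ (j + 1) = 1 := by
    have := Nat.find_spec hex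
    rwa [hj] at this
  refine ⟨j, h1, mem_of_sq h ?_, h2⟩
  rwa [← pow_mul, ← pow_succ]

/-- A Sylow `p`-subgroup of `L` covers a `p`-group quotient. -/
theorem le_sup_sylow {p : ℕ} [Fact p.Prime] {K R L : Subgroup G} [K.Normal] (hLR : L ≤ R)
    (hR : R ≤ K ⊔ L) (hp : IsPGroup p (R.map (QuotientGroup.mk' K))) (P : Sylow p L) :
    R ≤ K ⊔ (P : Subgroup L).map L.subtype := by
  set f := (QuotientGroup.mk' K).comp L.subtype with hf
  have hrange : f.range ≤ R.map (QuotientGroup.mk' K) := by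
    rintro _ ⟨l, rfl⟩
    exact mem_map_of_mem _ (hLR l.2)
  obtain ⟨a, ha⟩ := IsPGroup.iff_card.1 (hp.to_le hrange)
  have h1 : ((P : Subgroup L).map f.rangeRestrict).index ∣ (P : Subgroup L).index :=
    index_map_dvd _ f.rangeRestrict_surjective
  have h2 : ((P : Subgroup L).map f.rangeRestrict).index ∣ p ^ a :=
    ha ▸ index_dvd_card _
  obtain ⟨b, -, hb⟩ := (Nat.dvd_prime_pow Fact.out).1 h2
  have hb0 : b = 0 := by
    by_contra hne
    exact P.not_dvd_index ((hb ▸ dvd_pow_self p hne).trans h1)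
  rw [hb0, pow_zero] at hb
  have htop := index_eq_one.1 hb
  intro r hr
  obtain ⟨k, hk, l, hl, rfl⟩ := mem_sup_of_normal_left.1 (hR hr)
  have h3 : f.rangeRestrict ⟨l, hl⟩ ∈ (P : Subgroup L).map f.rangeRestrict := htop ▸ mem_top _
  obtain ⟨q, hq, hqe⟩ := h3
  have h4 : QuotientGroup.mk' K (q : G) = QuotientGroup.mk' K l := congrArg Subtype.val hqe
  have h5 : (q : G)⁻¹ * l ∈ K := (QuotientGroup.eq).1 h4
  refine mul_mem (mem_sup_left hk) ?_
  rw [show l = (q : G) * ((q : G)⁻¹ * l) by group]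
  exact mul_mem (mem_sup_right (mem_map_of_mem _ hq)) (mem_sup_left h5)

/-- There is an odd `p`-group normalising a Sylow 2-subgroup and fixing nothing in `U`, and the
Sylow 2-subgroups centralise `U`. -/
theorem exists_fpf (h : Hyp G) (S : Sylow 2 G) :
    (S : Subgroup G) ≤ centralizer (invSubgroup G : Set G) ∧
      ∃ p : ℕ, p.Prime ∧ p ≠ 2 ∧ ∃ P : Subgroup G, IsPGroup p P ∧
        P ≤ normalizer ((S : Subgroup G) : Set G) ∧
          ∀ u ∈ invSubgroup G, (∀ a ∈ P, a * u = u * a) → u = 1 := by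
  classical
  haveI : Fact (Nat.Prime 2) := ⟨Nat.prime_two⟩
  haveI := h.solv
  set U := invSubgroup G with hU
  set K := centralizer (U : Set G) with hK
  haveI hKn : K.Normal := inferInstance
  set π := QuotientGroup.mk' K with hπ
  have hKtop : (⊤ : Subgroup (G ⧸ K)) ≠ ⊥ := by
    intro e
    obtain ⟨x, y, hxy, hx1, hx, hy1, hy⟩ := h.two
    obtain ⟨g, hg⟩ := isConj_iff.1 (h.conj x y hx1 hx hy1 hy)
    have h1 : g ∈ K := by
      rw [← QuotientGroup.eq_one_iff, ← mem_bot (x := (g : G ⧸ K)), ← e]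
      exact mem_top _
    have h2 := mem_centralizer_iff.1 h1 x (mem_of_sq h hx)
    rw [← h2, mul_inv_cancel_right] at hg
    exact hxy hg
  obtain ⟨N, hN, hNne, -, hmin⟩ := MinimalNormal.exists_minimal_normal_le normal_top hKtop
  haveI := hN
  obtain ⟨-, p, hp, hpow⟩ := MinimalNormal.elementaryAbelian N hNne hmin
  haveI : Fact p.Prime := ⟨hp⟩
  have hNp : IsPGroup p N := fun x => ⟨1, Subtype.ext (by rw [pow_one]; exact hpow x x.2)⟩
  set R := N.comap π with hR
  haveI : R.Normal := inferInstance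
  have hKR : K ≤ R := QuotientGroup.le_comap_mk' _ _
  have hRp : IsPGroup p (R.map π) := by
    rwa [hR, map_comap_eq_self_of_surjective (QuotientGroup.mk'_surjective K)]
  -- a supplement fixes nothing
  have hfix : ∀ P : Subgroup G, R ≤ K ⊔ P → ∀ u ∈ U, (∀ a ∈ P, a * u = u * a) → u = 1 := by
    intro P hP u hu hcomm
    by_contra hu1
    have hle : U ≤ U ⊓ centralizer (R : Set G) := by
      refine le_of_normal h hu hu1 ⟨hu, mem_centralizer_iff.2 fun r hr => ?_⟩
      obtain ⟨k, hk, a, ha, rfl⟩ := mem_sup_of_normal_left.1 (hP hr)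
      exact ((show Commute k u from (mem_centralizer_iff.1 hk u hu).symm).mul_left
        (hcomm a ha)).eq
    have hRK : R ≤ K := fun r hr => mem_centralizer_iff.2 fun v hv =>
      (mem_centralizer_iff.1 (hle hv).2 r hr).symm
    apply hNne
    rw [← map_comap_eq_self_of_surjective (QuotientGroup.mk'_surjective K) N, ← hR, Subgroup.map_eq_bot_iff,
      QuotientGroup.ker_mk']
    exact hRK
  -- `p` is odd
  have hp2 : p ≠ 2 := by
    rintro rfl
    let P : Sylow 2 R := default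
    set P₀ := (P : Subgroup R).map R.subtype with hP₀
    have hP₀2 : IsPGroup 2 P₀ := P.2.map _
    obtain ⟨z, hz, hz1⟩ := exists_mem_invSubgroup h
    letI : MulAction P₀ U :=
      { smul := fun a v => ⟨a * v * (a : G)⁻¹, (invSubgroup_normal (G := G)).conj_mem v v.2 a⟩
        one_smul := fun v => Subtype.ext (show (1 : G) * v * (1 : G)⁻¹ = v by simp)
        mul_smul := fun a b v => Subtype.ext
          (show ((a : G) * b) * v * ((a : G) * b)⁻¹ = a * (b * v * (b : G)⁻¹) * (a : G)⁻¹ by group) }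
    obtain ⟨k, hk⟩ := IsPGroup.iff_card.1 (isPGroup_invSubgroup (G := G))
    have hk0 : k ≠ 0 := by
      rintro rfl
      rw [pow_zero, card_eq_one] at hk
      exact hz1 (mem_bot.1 (hk ▸ hz))
    have h1 : (1 : U) ∈ MulAction.fixedPoints P₀ U := fun a =>
      Subtype.ext (show (a : G) * 1 * (a : G)⁻¹ = 1 by simp)
    obtain ⟨v, hv, hv1⟩ := hP₀2.exists_fixed_point_of_prime_dvd_card_of_fixed_point U
      (hk ▸ dvd_pow_self 2 hk0) h1
    exact hv1 (Subtype.ext (hfix P₀ (le_sup_sylow le_rfl le_sup_right hRp P) v v.2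
      fun a ha => mul_inv_eq_iff_eq_mul.1 (congrArg Subtype.val (hv ⟨a, ha⟩))).symm)
  -- the Sylow 2-subgroups lie in `K`
  let Q : Sylow p R := default
  set Q₀ := (Q : Subgroup R).map R.subtype with hQ₀
  have hQodd : ¬ 2 ∣ Nat.card (normalizer (Q₀ : Set G)) := by
    intro hd
    obtain ⟨⟨i, hi⟩, hi2⟩ := exists_prime_orderOf_dvd_card' 2 hd
    rw [Subgroup.orderOf_mk] at hi2
    have hisq : i ^ 2 = 1 := by rw [← hi2, pow_orderOf_eq_one]
    have hiU : i ∈ U := mem_of_sq h hisq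
    have hi1 : i = 1 := hfix Q₀ (le_sup_sylow le_rfl le_sup_right hRp Q) i hiU fun a ha => by
      have h1 : i * a * i⁻¹ * a⁻¹ ∈ Q₀ :=
        mul_mem ((mem_normalizer_iff.1 hi a).1 ha) (inv_mem ha)
      have h2 : i * a * i⁻¹ * a⁻¹ ∈ U := by
        rw [mul_assoc i a, mul_assoc i]
        exact mul_mem hiU ((invSubgroup_normal).conj_mem _ (inv_mem hiU) a)
      have h3 : IsPGroup p Q₀ := Q.2.map _
      have h4 : i * a * i⁻¹ * a⁻¹ = 1 := by
        obtain ⟨j, hj⟩ := h3 ⟨_, h1⟩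
        have hj' : (i * a * i⁻¹ * a⁻¹) ^ p ^ j = 1 := congrArg Subtype.val hj
        exact eq_one_of_coprime_pow
          (Nat.Coprime.pow_left j ((Nat.coprime_primes hp Nat.prime_two).2 hp2)) hj' h2.2.2
      exact (mul_inv_eq_iff_eq_mul.1 (mul_inv_eq_one.1 h4)).symm
    rw [hi1, orderOf_one] at hi2
    omega
  have hGR : normalizer (Q₀ : Set G) ⊔ R = ⊤ := Sylow.normalizer_sup_eq_top Q
  have hidx : ¬ 2 ∣ R.index := by
    intro hd
    refine hQodd (hd.trans ?_)
    rw [← relIndex_top_right R, ← hGR, relIndex_sup_right]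
    exact relIndex_dvd_card _ _
  have hSK : (S : Subgroup G) ≤ K := by
    intro s hs
    obtain ⟨j, hj⟩ := S.2 ⟨s, hs⟩
    have hj' : s ^ 2 ^ j = 1 := by simpa [Subtype.ext_iff] using hj
    have hsR : s ∈ R := by
      rw [← QuotientGroup.eq_one_iff]
      refine eq_one_of_coprime_pow
        (Nat.Coprime.pow_left j ((Nat.prime_two.coprime_iff_not_dvd).2 hidx)) ?_
        (by rw [index_eq_card]; exact pow_card_eq_one')
      rw [← QuotientGroup.mk_pow, hj', QuotientGroup.mk_one]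
    have h1 : π s ∈ R.map π := mem_map_of_mem _ hsR
    obtain ⟨i, hi⟩ := hRp ⟨_, h1⟩
    have hi' : π s ^ p ^ i = 1 := by simpa [Subtype.ext_iff] using hi
    rw [← QuotientGroup.eq_one_iff]
    show π s = 1
    exact eq_one_of_coprime_pow (Nat.Coprime.pow i j ((Nat.coprime_primes hp Nat.prime_two).2 hp2))
      hi' (by rw [← map_pow, hj', map_one])
  refine ⟨hSK, p, hp, hp2, ?_⟩
  -- choose `P` inside the normaliser of `S`
  have hF : normalizer ((S : Subgroup G) : Set G) ⊔ K = ⊤ := by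
    have := Sylow.normalizer_sup_eq_top (S.subtype hSK)
    rwa [Sylow.coe_subtype, map_subgroupOf_eq_of_le hSK] at this
  set L := R ⊓ normalizer ((S : Subgroup G) : Set G) with hL
  have hRL : R ≤ K ⊔ L := by
    intro r hr
    obtain ⟨k, hk, n, hn, rfl⟩ := mem_sup_of_normal_left.1
      (((sup_comm K _).trans hF).symm ▸ mem_top r : r ∈ K ⊔ normalizer ((S : Subgroup G) : Set G))
    exact mul_mem (mem_sup_left hk) (mem_sup_right ⟨by simpa using R.mul_mem (inv_mem (hKR hk)) hr, hn⟩)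
  let P : Sylow p L := default
  exact ⟨(P : Subgroup L).map L.subtype, P.2.map _, (map_subtype_le _).trans inf_le_right,
    hfix _ (le_sup_sylow inf_le_left hRL hRp P)⟩

end Cfsg.Agent.Lib.InvolutionsConj
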