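import Cfsg.Agent.Lib.InvolutionsConj.Basic
import Cfsg.Agent.Lib.TwoSquaring.GaussSum
import Cfsg.Agent.Lib.Coprime.Quotient

/-!
Odd elements of `C(U)` act on a critical subgroup of `O_2(G)` fixing only `U`.
-/

set_option autoImplicit false
set_option linter.unusedSectionVars false
set_option maxHeartbeats 400000

namespace Cfsg.Agent.Lib.InvolutionsConj

open Cfsg Subgroup
open scoped commutatorElement

universe u

variable {G : Type u} [Group G] [Finite G]

/-- A critical subgroup of `O_2(G)`. -/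
structure Crit (C : Subgroup G) : Prop where
  normal : C.Normal
  le_core : C ≤ pCore 2 G
  sq_mem : ∀ c ∈ C, c ^ 2 ∈ C ⊓ centralizer (C : Set G)
  comm_mem : ∀ c ∈ C, ∀ t ∈ pCore 2 G, c * t * c⁻¹ * t⁻¹ ∈ C ⊓ centralizer (C : Set G)
  cent_le : pCore 2 G ⊓ centralizer (C : Set G) ≤ C

theorem exists_crit : ∃ C : Subgroup G, Crit C := by
  haveI : Fact (Nat.Prime 2) := ⟨Nat.prime_two⟩
  haveI := PSolvable.pCore_characteristic (p := 2) (G := G)
  obtain ⟨C₀, h⟩ := Critical.exists_critical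
    (PSolvable.pCore_isPGroup (p := 2) (G := G))
  haveI := h.char
  have hmap : ∀ {x : pCore 2 G}, x ∈ C₀ ⊓ centralizer (C₀ : Set (pCore 2 G)) →
      (x : G) ∈ C₀.map (pCore 2 G).subtype ⊓
        centralizer ((C₀.map (pCore 2 G).subtype : Subgroup G) : Set G) := by
    intro x hx
    refine ⟨mem_map_of_mem _ hx.1, mem_centralizer_iff.2 ?_⟩
    rintro _ ⟨y, hy, rfl⟩
    exact congrArg Subtype.val (mem_centralizer_iff.1 hx.2 y hy)
  refine ⟨C₀.map (pCore 2 G).subtype, inferInstance, map_subtype_le _, ?_, ?_, ?_⟩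
  · rintro _ ⟨c, hc, rfl⟩
    exact hmap (h.pow_mem c hc)
  · rintro _ ⟨c, hc, rfl⟩ t ht
    exact hmap (h.comm_le (commutator_mem_commutator hc (mem_top (⟨t, ht⟩ : pCore 2 G))))
  · rintro x ⟨hx, hxc⟩
    refine ⟨⟨x, hx⟩, h.centralizer_le (mem_centralizer_iff.2 fun y hy => Subtype.ext ?_), rfl⟩
    exact mem_centralizer_iff.1 hxc y (mem_map_of_mem _ hy)

theorem pow_two_pow_eq_one {x : G} (hx : x ∈ pCore 2 G) : ∃ k : ℕ, x ^ 2 ^ k = 1 := by
  obtain ⟨k, hk⟩ := PSolvable.pCore_isPGroup (p := 2) (G := G) ⟨x, hx⟩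
  exact ⟨k, congrArg Subtype.val hk⟩

/-- An odd element shifting `a` by a fixed 2-element fixes `a`. -/
theorem commute_of_shift {w a u : G} (hw : Odd (orderOf w)) (hwu : Commute w u)
    (hu : ∃ k : ℕ, u ^ 2 ^ k = 1) (h : w * a * w⁻¹ = u * a) : w * a = a * w := by
  have hj : ∀ j : ℕ, w ^ j * a * (w ^ j)⁻¹ = u ^ j * a := by
    intro j
    induction j with
    | zero => simp
    | succ j ih =>
      calc w ^ (j + 1) * a * (w ^ (j + 1))⁻¹ = w * (w ^ j * a * (w ^ j)⁻¹) * w⁻¹ := by group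
        _ = w * u ^ j * w⁻¹ * (w * a * w⁻¹) := by rw [ih]; group
        _ = u ^ j * (u * a) := by rw [h, (hwu.pow_right j).eq, mul_inv_cancel_right]
        _ = u ^ (j + 1) * a := by rw [pow_succ, mul_assoc]
  have h1 := hj (orderOf w)
  rw [pow_orderOf_eq_one, one_mul, inv_one, mul_one] at h1
  obtain ⟨k, hk⟩ := hu
  have hu1 : u = 1 := eq_one_of_coprime_pow
    (Nat.Coprime.pow_right k (Nat.coprime_two_right.2 hw)) (mul_eq_right.1 h1.symm) hk
  rw [hu1, one_mul] at h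
  exact mul_inv_eq_iff_eq_mul.1 h

variable {C : Subgroup G}

theorem Crit.inv_le (h : Hyp G) (hC : Crit C) :
    invSubgroup G ≤ C ⊓ centralizer (C : Set G) := by
  intro x hx
  have hc : x ∈ centralizer (C : Set G) :=
    mem_centralizer_iff.2 fun c hc => hx.2.1 c (hC.le_core hc)
  exact ⟨hC.cent_le ⟨hx.1, hc⟩, hc⟩

/-- An odd element centralizing the critical subgroup is trivial. -/
theorem Crit.eq_one_of_commute (h : Hyp G) (hC : Crit C) {w : G} (hw : Odd (orderOf w))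
    (hwc : ∀ c ∈ C, w * c = c * w) : w = 1 := by
  haveI : Fact (Nat.Prime 2) := ⟨Nat.prime_two⟩
  haveI := h.solv
  haveI := PSolvable.pCore_characteristic (p := 2) (G := G)
  haveI := hC.normal
  obtain ⟨a, ha⟩ := IsPGroup.iff_card.1 (PSolvable.pCore_isPGroup (p := 2) (G := G))
  have h1 : zpowers w ≤ centralizer (pCore 2 G : Set G) := by
    refine Critical.le_centralizer_of_le_centralizer_critical hC.le_core (commutator_le_right _ _)
      hC.cent_le ?_ ?_ (zpowers_le.2 (mem_centralizer_iff.2 fun c hc => (hwc c hc).symm))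
    · exact fun g _ => by rw [normalizer_eq_top]; exact mem_top g
    · rw [Nat.card_zpowers, ha]
      exact Nat.Coprime.pow_right a (Nat.coprime_two_right.2 hw)
  have h2 : w ∈ pCore 2 G := PSolvable.centralizer_pCore_le_of_isPSolvable
    PSolvable.isPSolvable_of_isSolvable h.core (h1 (mem_zpowers w))
  obtain ⟨k, hk⟩ := pow_two_pow_eq_one h2
  exact eq_one_of_coprime_pow (Nat.Coprime.pow_right k (Nat.coprime_two_right.2 hw))
    (pow_orderOf_eq_one w) hk

/-- Odd elements centralizing `U` centralize the centre of the critical subgroup. -/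
theorem Crit.commute_center (h : Hyp G) (hC : Crit C) {w : G} (hw : Odd (orderOf w))
    (hwK : w ∈ centralizer (invSubgroup G : Set G)) :
    ∀ a ∈ C ⊓ centralizer (C : Set G), w * a = a * w := by
  haveI := hC.normal
  have hA : (C ⊓ centralizer (C : Set G)).Normal := inferInstance
  suffices ∀ k : ℕ, ∀ a ∈ C ⊓ centralizer (C : Set G), a ^ 2 ^ k = 1 → w * a = a * w by
    intro a ha
    obtain ⟨k, hk⟩ := pow_two_pow_eq_one (hC.le_core ha.1)
    exact this k a ha hk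
  intro k
  induction k with
  | zero =>
    intro a _ ha1
    rw [pow_zero, pow_one] at ha1
    simp [ha1]
  | succ k ih =>
    intro a ha hak
    have h2 := ih (a ^ 2) (pow_mem ha 2) (by rw [← pow_mul, ← pow_succ', hak])
    have hb := hA.conj_mem a ha w
    have hcomm : Commute (w * a * w⁻¹) a⁻¹ :=
      (show Commute (w * a * w⁻¹) a from mem_centralizer_iff.1 ha.2 _ hb.1).inv_right
    have hu : (w * a * w⁻¹ * a⁻¹) ^ 2 = 1 := by
      rw [hcomm.mul_pow, conj_pow, h2, mul_inv_cancel_right, inv_pow, mul_inv_cancel]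
    exact commute_of_shift hw (mem_centralizer_iff.1 hwK _ (mem_of_sq h hu)).symm
      ⟨1, by rw [pow_one, hu]⟩ (by group)

/-- The displacement of a square-preserving map. -/
theorem disp_sq {c d : G} (h : (c * d) ^ 2 = c ^ 2) : d ^ 2 = d * c⁻¹ * d⁻¹ * c := by
  rw [sq, sq, mul_assoc c d, mul_right_inj] at h
  calc d ^ 2 = d * c⁻¹ * d⁻¹ * (d * (c * d)) := by rw [sq]; group
    _ = _ := by rw [h]

theorem Crit.comm_sq (hC : Crit C) {c d : G} (hc : c ∈ C) (hd : d ∈ C) :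
    (d * c⁻¹ * d⁻¹ * c) ^ 2 = 1 := by
  have h1 : d * c⁻¹ * d⁻¹ * c ∈ C ⊓ centralizer (C : Set G) := by
    simpa using hC.comm_mem d hd c⁻¹ (inv_mem (hC.le_core hc))
  have h2 : d ^ 2 * c⁻¹ = c⁻¹ * d ^ 2 :=
    (mem_centralizer_iff.1 (hC.sq_mem d hd).2 c⁻¹ (inv_mem hc)).symm
  have h3 : d * c⁻¹ * d⁻¹ * c = d * (d * c⁻¹ * d⁻¹ * c) * d⁻¹ := by
    rw [mem_centralizer_iff.1 h1.2 d hd, mul_inv_cancel_right]
  calc (d * c⁻¹ * d⁻¹ * c) ^ 2 = d * (d * c⁻¹ * d⁻¹ * c) * d⁻¹ * (d * c⁻¹ * d⁻¹ * c) := by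
        rw [sq]; nth_rw 1 [h3]
    _ = d ^ 2 * c⁻¹ * (d ^ 2)⁻¹ * c := by rw [sq]; group
    _ = 1 := by rw [h2]; group

/-- If some odd element of `C(U)` is non-trivial, the critical subgroup has centre `U`. -/
theorem Crit.center_eq (h : Hyp G) (hC : Crit C) {w : G} (hw : Odd (orderOf w))
    (hwK : w ∈ centralizer (invSubgroup G : Set G)) (hw1 : w ≠ 1) :
    C ⊓ centralizer (C : Set G) = invSubgroup G := by
  refine le_antisymm (fun a ha => ?_) (hC.inv_le h)
  by_contra haU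
  haveI := hC.normal
  have hA : (C ⊓ centralizer (C : Set G)).Normal := inferInstance
  -- every element of `U` is a square in the centre
  have ha2 : a ^ 2 ≠ 1 := fun e => haU (mem_of_sq h e)
  obtain ⟨j, hj1, hjU, -⟩ := exists_involution_pow h ha2
    (pow_two_pow_eq_one (pow_mem (hC.le_core ha.1) 2))
  have hsq : ∀ v ∈ invSubgroup G, ∃ b ∈ C ⊓ centralizer (C : Set G), b ^ 2 = v := by
    intro v hv
    by_cases hv1 : v = 1
    · exact ⟨1, one_mem _, by simp [hv1]⟩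
    obtain ⟨g, hg⟩ := isConj_iff.1 (h.conj _ v hj1 (invSubgroup_sq hjU) hv1 (invSubgroup_sq hv))
    refine ⟨g * a ^ 2 ^ j * g⁻¹, hA.conj_mem _ (pow_mem ha _) g, ?_⟩
    rw [conj_pow, ← hg, ← pow_mul, ← pow_mul, mul_comm]
  apply hw1
  refine hC.eq_one_of_commute h hw fun c hc => ?_
  have hfix := hC.commute_center h hw hwK
  set d := c⁻¹ * (w * c * w⁻¹) with hd
  have hdC : d ∈ C := mul_mem (inv_mem hc) (hC.normal.conj_mem c hc w)
  have hd2 : d ^ 2 = d * c⁻¹ * d⁻¹ * c := disp_sq (by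
    rw [hd, mul_inv_cancel_left, conj_pow, hfix _ (hC.sq_mem c hc), mul_inv_cancel_right])
  obtain ⟨b, hb, hb2⟩ := hsq _ (mem_of_sq h (hd2 ▸ hC.comm_sq hc hdC : (d ^ 2) ^ 2 = 1))
  have hdb : Commute d b⁻¹ :=
    (show Commute d b from mem_centralizer_iff.1 hb.2 d hdC).inv_right
  have h4 : d * b⁻¹ ∈ invSubgroup G :=
    mem_of_sq h (by rw [hdb.mul_pow, inv_pow, hb2, mul_inv_cancel])
  have hdA : d ∈ C ⊓ centralizer (C : Set G) := by
    rw [show d = d * b⁻¹ * b by group]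
    exact mul_mem (hC.inv_le h h4) hb
  refine commute_of_shift hw (hfix d hdA) (pow_two_pow_eq_one (hC.le_core hdC)) ?_
  rw [show d * c = c * d from (mem_centralizer_iff.1 hdA.2 c hc).symm, hd, mul_inv_cancel_left]

theorem pow_arith {n a k N : ℕ} (hn : 1 ≤ n) (hcard : 2 ^ a = 2 ^ n + (2 ^ n - 1) * N)
    (hN0 : N ≠ 0) (hsq : ((2 : ℤ) ^ n - N) ^ 2 = 2 ^ k) :
    2 ^ a = 2 ^ (3 * n) ∧ k = 4 * n := by
  have hu1 : 2 ≤ 2 ^ n := le_trans (by norm_num) (Nat.pow_le_pow_right two_pos hn)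
  have hna : n ≤ a := (Nat.pow_le_pow_iff_right one_lt_two).1 (by omega)
  have hdvd : 2 ^ n ∣ (2 ^ n - 1) * N :=
    (Nat.dvd_add_right dvd_rfl).1 (hcard ▸ pow_dvd_pow 2 hna)
  have hodd : (2 ^ n).Coprime (2 ^ n - 1) := by
    have : Nat.Coprime 2 (2 ^ n - 1) := Nat.coprime_two_left.2
      (Nat.Even.sub_odd (by omega) (Nat.even_pow.2 ⟨even_two, by omega⟩) odd_one)
    exact Nat.Coprime.pow_left n this
  obtain ⟨M, hM⟩ := hodd.dvd_of_dvd_mul_left hdvd
  have hsq' : ((2 : ℤ) ^ n - N).natAbs ^ 2 = 2 ^ k := by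
    have := congrArg Int.natAbs hsq
    simpa [Int.natAbs_pow] using this
  obtain ⟨e, -, he⟩ := (Nat.dvd_prime_pow Nat.prime_two).1
    (hsq' ▸ dvd_pow_self _ two_ne_zero : ((2 : ℤ) ^ n - N).natAbs ∣ 2 ^ k)
  have hk : e * 2 = k := by
    rw [he, ← pow_mul] at hsq'
    exact Nat.pow_right_injective le_rfl hsq'
  have hM0 : M ≠ 0 := by rintro rfl; simp at hM; exact hN0 hM
  have hN : N = 2 ^ n + 2 ^ e := by
    have h1 : 2 ^ n ≤ N := by rw [hM]; exact Nat.le_mul_of_pos_right _ (Nat.pos_of_ne_zero hM0)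
    have h3 : ((2 : ℤ) ^ n - (N : ℤ)).natAbs = N - 2 ^ n := by
      have : ((2 : ℤ) ^ n) = ((2 ^ n : ℕ) : ℤ) := by push_cast; rfl
      rw [this]
      omega
    have := Nat.two_pow_pos e
    omega
  have hne : n ≤ e := by
    by_contra hlt
    have h1 : 2 ^ n ∣ 2 ^ e := (Nat.dvd_add_right dvd_rfl).1 (hN ▸ hM ▸ dvd_mul_right _ _)
    have := (Nat.pow_dvd_pow_iff_le_right one_lt_two).1 h1
    omega
  obtain ⟨l, rfl⟩ := Nat.exists_eq_add_of_le hne
  obtain ⟨m, rfl⟩ := Nat.exists_eq_add_of_le hna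
  have key : 2 ^ m + 2 ^ l = 2 ^ n + 2 ^ (n + l) := by
    have h1 : 2 ^ n * 2 ^ m = 2 ^ n * (1 + (2 ^ n - 1) * (1 + 2 ^ l)) := by
      rw [← pow_add, hcard, hN, pow_add]; ring
    have h2 := Nat.eq_of_mul_eq_mul_left (Nat.two_pow_pos n) h1
    obtain ⟨u, hu⟩ := Nat.exists_eq_add_of_le (show 1 ≤ 2 ^ n by omega)
    rw [h2, pow_add, hu, Nat.add_sub_cancel_left]
    ring
  have hl : l = n := by
    have hlarge : 2 ^ n ≤ 2 ^ (n + l) := Nat.pow_le_pow_right two_pos (Nat.le_add_right n l)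
    have h2l : 2 ^ (n + l) = 2 ^ n * 2 ^ l := pow_add 2 n l
    have hlpos := Nat.two_pow_pos l
    have hml : m ≤ n + l + 1 := by
      by_contra hlt
      have : 2 ^ (n + l + 2) ≤ 2 ^ m := Nat.pow_le_pow_right two_pos (by omega)
      rw [pow_add] at this
      omega
    rcases lt_trichotomy l n with hln | hln | hln
    · -- `2 ^ l` is the lowest term
      have h1 : 2 ^ n ∣ 2 ^ m + 2 ^ l := key ▸ dvd_add dvd_rfl (pow_dvd_pow 2 (Nat.le_add_right n l))
      rcases lt_trichotomy m l with hml' | hml' | hml'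
      · have : 2 ^ m < 2 ^ n := Nat.pow_lt_pow_right one_lt_two (by omega)
        have : 2 ^ l < 2 ^ n := Nat.pow_lt_pow_right one_lt_two hln
        have : 2 ^ m + 2 ^ l < 2 ^ n + 2 ^ (n + l) := by omega
        omega
      · subst hml'
        have : 2 ^ m < 2 ^ n := Nat.pow_lt_pow_right one_lt_two hln
        omega
      · have h2 : 2 ^ (l + 1) ∣ 2 ^ l :=
          (Nat.dvd_add_right (pow_dvd_pow 2 (by omega))).1 (dvd_trans (pow_dvd_pow 2 (by omega)) h1)
        have := (Nat.pow_dvd_pow_iff_le_right one_lt_two).1 h2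
        omega
    · exact hln
    · have h1 : 2 ^ (n + 1) ∣ 2 ^ (n + l) := pow_dvd_pow 2 (by omega)
      have h2 : 2 ^ (n + 1) ∣ 2 ^ l := pow_dvd_pow 2 (by omega)
      rcases lt_trichotomy m n with hmn | hmn | hmn
      · have h4 : 2 ^ (m + 1) ∣ 2 ^ m + 2 ^ l := by
          rw [key]
          exact dvd_add (pow_dvd_pow 2 (by omega)) (pow_dvd_pow 2 (by omega))
        have : 2 ^ (m + 1) ∣ 2 ^ m :=
          (Nat.dvd_add_left (pow_dvd_pow 2 (by omega : m + 1 ≤ l))).1 h4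
        have := (Nat.pow_dvd_pow_iff_le_right one_lt_two).1 this
        omega
      · subst hmn
        have : 2 ^ l < 2 ^ (m + l) := Nat.pow_lt_pow_right one_lt_two (by omega)
        omega
      · have h3 : 2 ^ (n + 1) ∣ 2 ^ n + 2 ^ (n + l) :=
          key ▸ dvd_add (pow_dvd_pow 2 (by omega)) h2
        have := (Nat.pow_dvd_pow_iff_le_right one_lt_two).1 ((Nat.dvd_add_left h1).1 h3)
        omega
  subst hl
  refine ⟨?_, by omega⟩
  have h1 : 2 ^ m = 2 ^ (l + l) := by omega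
  rw [show 3 * l = l + (l + l) by ring, pow_add 2 l m, h1, ← pow_add]

end Cfsg.Agent.Lib.InvolutionsConj
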