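import Cfsg.Agent.Lib.InvolutionsConj.Critical

/-!
Odd elements of `C(U)` fix only `U` in the critical subgroup, and an element whose square lies in
`O_2(G)` commutes modulo `O_2(G)` with such an element only if it lies in `O_2(G)`.
-/

set_option autoImplicit false
set_option linter.unusedSectionVars false
set_option linter.style.haveILetI false
set_option maxHeartbeats 400000

namespace Cfsg.Agent.Lib.InvolutionsConj

open Cfsg Subgroup
open Cfsg.Agent.Lib.TwoSquaring
open scoped commutatorElement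

universe u

variable {G : Type u} [Group G] [Finite G] {C : Subgroup G}

theorem Crit.squaresIn (hC : Crit C) (hA : C ⊓ centralizer (C : Set G) = invSubgroup G) :
    SquaresIn ((invSubgroup G).subgroupOf C) := by
  refine ⟨fun e he => mem_center_iff.2 fun x => Subtype.ext ?_,
    fun e he => Subtype.ext (invSubgroup_sq (mem_subgroupOf.1 he)), fun x => ?_, fun x y => ?_⟩
  · exact (mem_subgroupOf.1 he).2.1 x (hC.le_core x.2)
  · rw [mem_subgroupOf, ← hA, Subgroup.coe_pow]
    exact hC.sq_mem x x.2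
  · rw [mem_subgroupOf, ← hA]
    exact hC.comm_mem x x.2 y (hC.le_core y.2)

open scoped Classical in
/-- Non-trivial characters of `E` have radical `E`, and `|C| = |E|^3`. -/
theorem Crit.count (h : Hyp G) (hC : Crit C) (hA : C ⊓ centralizer (C : Set G) = invSubgroup G)
    {w : G} (hw : Odd (orderOf w)) (hwK : w ∈ centralizer (invSubgroup G : Set G)) (hw1 : w ≠ 1) :
    Nat.card C = Nat.card (invSubgroup G) ^ 3 ∧
      ∀ φ : (invSubgroup G).subgroupOf C →* ℤˣ, φ ≠ 1 →
        ((hC.squaresIn hA).signQuad φ).radical ≤ (invSubgroup G).subgroupOf C := by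
  haveI : Fintype G := Fintype.ofFinite G
  haveI : Fact (Nat.Prime 2) := ⟨Nat.prime_two⟩
  set U := invSubgroup G with hU
  set E := U.subgroupOf C with hE
  have hS := hC.squaresIn hA
  have hUC : U ≤ C := hA ▸ inf_le_left
  have hEU : Nat.card E = Nat.card U :=
    Nat.card_congr (Subgroup.subgroupOfEquivOfLe hUC).toEquiv
  obtain ⟨n, hn⟩ := IsPGroup.iff_card.1 (isPGroup_invSubgroup (G := G))
  obtain ⟨a, ha⟩ := IsPGroup.iff_card.1 ((PSolvable.pCore_isPGroup (p := 2) (G := G)).to_le hC.le_core)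
  obtain ⟨z, hz, hz1⟩ := exists_mem_invSubgroup h
  have hn1 : 1 ≤ n := by
    by_contra hlt
    rw [show n = 0 by omega, pow_zero, card_eq_one] at hn
    exact hz1 (mem_bot.1 (hn ▸ hz))
  let sqm : C → E := fun x => ⟨x ^ 2, hS.sq_mem x⟩
  let fib : E → ℕ := fun e => (Finset.univ.filter fun x => sqm x = e).card
  -- the fibre over one
  have hone : fib 1 = Nat.card E := by
    rw [Nat.card_eq_fintype_card, Fintype.card_of_subtype (Finset.univ.filter fun x : C => sqm x = 1)]
    intro x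
    simp only [Finset.mem_filter, Finset.mem_univ, true_and]
    refine ⟨fun hx => ?_, fun hx => Subtype.ext (hS.sq_one x hx)⟩
    rw [hE, mem_subgroupOf]
    refine mem_of_sq h ?_
    rw [← Subgroup.coe_pow, show x ^ 2 = 1 from congrArg Subtype.val hx, Subgroup.coe_one]
  -- conjugation permutes the fibres
  have hz' : (⟨⟨z, hUC hz⟩, mem_subgroupOf.2 hz⟩ : E) ≠ 1 := fun e =>
    hz1 (congrArg (fun t : E => ((t : C) : G)) e)
  set e₀ : E := ⟨⟨z, hUC hz⟩, mem_subgroupOf.2 hz⟩ with he₀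
  have hconst : ∀ e : E, e ≠ 1 → fib e = fib e₀ := by
    intro e he
    have he' : ((e : C) : G) ≠ 1 := fun e1 => he (Subtype.ext (Subtype.ext e1))
    obtain ⟨g, hg⟩ := isConj_iff.1 (h.conj z _ hz1 (invSubgroup_sq hz) he'
      (invSubgroup_sq (mem_subgroupOf.1 e.2)))
    symm
    refine Finset.card_bij' (fun x _ => (⟨g * x * g⁻¹, hC.normal.conj_mem x x.2 g⟩ : C))
      (fun x _ => (⟨g⁻¹ * x * g, by simpa using hC.normal.conj_mem x x.2 g⁻¹⟩ : C)) ?_ ?_ ?_ ?_
    · intro x hx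
      simp only [Finset.mem_filter, Finset.mem_univ, true_and] at hx ⊢
      apply Subtype.ext; apply Subtype.ext
      have hxz : (x : G) ^ 2 = z := congrArg (fun t : E => ((t : C) : G)) hx
      show (g * (x : G) * g⁻¹) ^ 2 = ((e : C) : G)
      rw [conj_pow, hxz, hg]
    · intro x hx
      simp only [Finset.mem_filter, Finset.mem_univ, true_and] at hx ⊢
      apply Subtype.ext; apply Subtype.ext
      have hxe : (x : G) ^ 2 = ((e : C) : G) := congrArg (fun t : E => ((t : C) : G)) hx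
      show (g⁻¹ * (x : G) * g) ^ 2 = z
      rw [show g⁻¹ * (x : G) * g = g⁻¹ * x * g⁻¹⁻¹ by group, conj_pow, hxe, ← hg]
      group
    · intro x _; apply Subtype.ext; show g⁻¹ * (g * (x : G) * g⁻¹) * g = x; group
    · intro x _; apply Subtype.ext; show g * (g⁻¹ * (x : G) * g) * g⁻¹ = x; group
  set N := fib e₀ with hN
  have hcard : 2 ^ a = 2 ^ n + (2 ^ n - 1) * N := by
    rw [← ha, ← hn, ← hEU, Nat.card_eq_fintype_card,
      ← Finset.card_univ, Finset.card_eq_sum_card_fiberwise (fun x _ => Finset.mem_univ (sqm x)),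
      ← Finset.add_sum_erase _ _ (Finset.mem_univ (1 : E))]
    rw [show (Finset.univ.filter fun x => sqm x = 1).card = Nat.card E from hone,
      Finset.sum_congr rfl (fun e he => show (Finset.univ.filter fun x => sqm x = e).card = N from
        hconst e (Finset.ne_of_mem_erase he)),
      Finset.sum_const, Finset.card_erase_of_mem (Finset.mem_univ _), smul_eq_mul]
    simp [Nat.card_eq_fintype_card]
  have hN0 : N ≠ 0 := by
    intro hN0
    rw [hN0, mul_zero, add_zero] at hcard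
    have hCU : U = C := Subgroup.eq_of_le_of_card_ge hUC (by rw [ha, hn, hcard])
    exact hw1 (hC.eq_one_of_commute h hw fun c hc =>
      hC.commute_center h hw hwK c (by rw [hA, hCU]; exact hc))
  -- the fibre of every non-trivial element is not a coset of `E`
  have hNne : N ≠ Nat.card E := by
    intro hNe
    refine hw1 (hC.eq_one_of_commute h hw fun c hc => ?_)
    by_cases hcU : c ∈ U
    · exact (mem_centralizer_iff.1 hwK c hcU).symm
    have hc2 : sqm ⟨c, hc⟩ ≠ 1 := fun e => hcU (mem_of_sq h (by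
      rw [← show ((⟨c, hc⟩ : C) : G) = c from rfl, ← Subgroup.coe_pow,
        show (⟨c, hc⟩ : C) ^ 2 = 1 from congrArg Subtype.val e, Subgroup.coe_one]))
    have hw2 : sqm ⟨w * c * w⁻¹, hC.normal.conj_mem c hc w⟩ = sqm ⟨c, hc⟩ := by
      apply Subtype.ext; apply Subtype.ext
      show (w * c * w⁻¹) ^ 2 = c ^ 2
      rw [conj_pow, hC.commute_center h hw hwK _ (hC.sq_mem c hc), mul_inv_cancel_right]
    have himg : (Finset.univ.map ⟨fun e : E => (e : C) * ⟨c, hc⟩,
        fun e e' he => Subtype.ext (mul_right_cancel he)⟩) =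
        Finset.univ.filter fun x => sqm x = sqm ⟨c, hc⟩ := by
      refine Finset.eq_of_subset_of_card_le (fun x hx => ?_) ?_
      · obtain ⟨e, -, rfl⟩ := Finset.mem_map.1 hx
        simp only [Finset.mem_filter, Finset.mem_univ, true_and]
        apply Subtype.ext
        show ((e : C) * ⟨c, hc⟩) ^ 2 = (⟨c, hc⟩ : C) ^ 2
        rw [(show Commute (e : C) ⟨c, hc⟩ from
          (mem_center_iff.1 (hS.central e.2) ⟨c, hc⟩).symm).mul_pow, hS.sq_one _ e.2, one_mul]
      · rw [Finset.card_map, Finset.card_univ, ← Nat.card_eq_fintype_card, ← hNe]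
        exact le_of_eq (hconst _ hc2)
    have hmem : (⟨w * c * w⁻¹, hC.normal.conj_mem c hc w⟩ : C) ∈
        Finset.univ.filter fun x => sqm x = sqm ⟨c, hc⟩ :=
      Finset.mem_filter.2 ⟨Finset.mem_univ _, hw2⟩
    rw [← himg] at hmem
    obtain ⟨e, -, he⟩ := Finset.mem_map.1 hmem
    have he' : ((e : C) : G) * c = w * c * w⁻¹ := congrArg Subtype.val he
    exact commute_of_shift hw (mem_centralizer_iff.1 hwK _ (mem_subgroupOf.1 e.2)).symm
      ⟨1, by rw [pow_one]; exact invSubgroup_sq (mem_subgroupOf.1 e.2)⟩ he'.symm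
  -- the Gauss sums
  have hsum : ∀ φ : E →* ℤˣ, φ ≠ 1 → ∑ x, hS.signMap φ x = (2 : ℤ) ^ n - N := by
    intro φ hφ
    obtain ⟨e₁, he₁⟩ : ∃ e₁, φ e₁ ≠ 1 := by
      by_contra! hc
      exact hφ (MonoidHom.ext hc)
    have hm : φ e₁ = -1 := (Int.units_eq_one_or _).resolve_left he₁
    have hzero : ∑ e : E, ((φ e : ℤˣ) : ℤ) = 0 := by
      have h1 : ∑ e : E, (((φ (e₁ * e)) : ℤˣ) : ℤ) = ∑ e : E, ((φ e : ℤˣ) : ℤ) :=
        Fintype.sum_equiv (Equiv.mulLeft e₁) _ _ fun e => rfl
      simp [map_mul, hm, Finset.sum_neg_distrib] at h1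
      omega
    calc ∑ x, hS.signMap φ x
        = ∑ e : E, ∑ x ∈ Finset.univ.filter (fun x => sqm x = e), hS.signMap φ x :=
          (Finset.sum_fiberwise _ _ _).symm
      _ = ∑ e : E, (fib e : ℤ) * ((φ e : ℤˣ) : ℤ) := Finset.sum_congr rfl fun e _ => by
          rw [Finset.sum_congr rfl fun x hx => show hS.signMap φ x = ((φ e : ℤˣ) : ℤ) by
            rw [← (Finset.mem_filter.1 hx).2]; rfl]
          simp [fib]
      _ = (Nat.card E : ℤ) + ∑ e ∈ Finset.univ.erase (1 : E), (N : ℤ) * ((φ e : ℤˣ) : ℤ) := by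
          rw [← Finset.add_sum_erase _ _ (Finset.mem_univ (1 : E)), hone, map_one, Units.val_one,
            mul_one]
          congr 1
          exact Finset.sum_congr rfl fun e he => by rw [hconst e (Finset.ne_of_mem_erase he)]
      _ = (2 : ℤ) ^ n - N := by
          rw [← Finset.mul_sum, Finset.sum_erase_eq_sub (Finset.mem_univ _), hzero, hEU, hn, map_one,
            Units.val_one]
          push_cast
          ring
  -- conclude
  have hne : ((2 : ℤ) ^ n - N) ≠ 0 := by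
    intro e
    apply hNne
    rw [hEU, hn]
    have : ((N : ℕ) : ℤ) = ((2 ^ n : ℕ) : ℤ) := by push_cast; omega
    exact_mod_cast this
  have hrad : ∀ φ : E →* ℤˣ, φ ≠ 1 → (hS.signQuad φ).radical ≤ E ∧ 2 ^ a = 2 ^ (3 * n) := by
    intro φ hφ
    rcases (hS.signQuad φ).sq_sum_eq with h0 | ⟨-, h0⟩
    · rw [pow_eq_zero_iff two_ne_zero, hsum φ hφ] at h0
      exact absurd h0 hne
    · obtain ⟨r, hr⟩ := IsPGroup.iff_card.1
        (((PSolvable.pCore_isPGroup (p := 2) (G := G)).to_le hC.le_core).to_subgroup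
          (hS.signQuad φ).radical)
      rw [hsum φ hφ, ha, hr] at h0
      push_cast at h0
      rw [← pow_add] at h0
      obtain ⟨h3, h4⟩ := pow_arith hn1 hcard hN0 h0
      have ha3 : a = 3 * n := Nat.pow_right_injective le_rfl h3
      refine ⟨fun x hx => ?_, h3⟩
      have hle : E ≤ (hS.signQuad φ).radical := hS.central.trans (hS.center_le_radical φ)
      rw [Subgroup.eq_of_le_of_card_ge hle (by rw [hr, hEU, hn, show r = n by omega])]
      exact hx
  obtain ⟨φ, hφ⟩ : ∃ φ : E →* ℤˣ, φ ≠ 1 := by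
    letI : CommGroup E :=
      { (inferInstance : Group E) with
        mul_comm := fun x y => Subtype.ext (mem_center_iff.1 (hS.central y.2) x) }
    haveI hroots : HasEnoughRootsOfUnity ℤ 2 :=
      { prim := ⟨-1, IsPrimitiveRoot.neg_one 0 (by norm_num)⟩
        cyc := rootsOfUnity.isCyclic ℤ 2 }
    have hexp : Monoid.exponent E ∣ 2 :=
      Monoid.exponent_dvd_of_forall_pow_eq_one fun e => Subtype.ext (by simpa using hS.sq_one e e.2)
    haveI := hroots.of_dvd ℤ hexp
    obtain ⟨φ, hφ⟩ := CommGroup.exists_apply_ne_one_of_hasEnoughRootsOfUnity E ℤ hz'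
    exact ⟨φ, fun e => hφ (by rw [e]; rfl)⟩
  refine ⟨?_, fun φ hφ => (hrad φ hφ).1⟩
  rw [ha, hn, (hrad φ hφ).2, ← pow_mul, mul_comm]

/-- Commutator with an element outside `E` covers `E`. -/
theorem Crit.comm_surj (h : Hyp G) (hC : Crit C) (hA : C ⊓ centralizer (C : Set G) = invSubgroup G)
    {w : G} (hw : Odd (orderOf w)) (hwK : w ∈ centralizer (invSubgroup G : Set G)) (hw1 : w ≠ 1)
    {x : C} (hx : (x : G) ∉ invSubgroup G) (v₀ : (invSubgroup G).subgroupOf C) :
    ∃ y : C, ⁅x, y⁆ = (v₀ : C) := by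
  classical
  revert v₀
  set E := (invSubgroup G).subgroupOf C with hE
  intro v
  have hS := hC.squaresIn hA
  letI : CommGroup E :=
    { (inferInstance : Group E) with
      mul_comm := fun a b => Subtype.ext (mem_center_iff.1 (hS.central b.2) a) }
  let f : C →* E := MonoidHom.mk' (fun y => ⟨⁅x, y⁆, hS.comm_mem x y⟩)
    fun a b => Subtype.ext (hS.comm_mul_right x a b)
  by_contra hcon
  push Not at hcon
  have hv : ((v : E) : E ⧸ f.range) ≠ 1 := fun e => by
    obtain ⟨y, hy⟩ := (QuotientGroup.eq_one_iff v).1 e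
    exact hcon y (show ⁅x, y⁆ = (v : C) from congrArg (fun t : E => (t : C)) hy)
  haveI hroots : HasEnoughRootsOfUnity ℤ 2 :=
    { prim := ⟨-1, IsPrimitiveRoot.neg_one 0 (by norm_num)⟩
      cyc := rootsOfUnity.isCyclic ℤ 2 }
  have hexp : Monoid.exponent (E ⧸ f.range) ∣ 2 :=
    Monoid.exponent_dvd_of_forall_pow_eq_one fun e => by
      obtain ⟨e, rfl⟩ := QuotientGroup.mk_surjective e
      rw [← QuotientGroup.mk_pow, show e ^ 2 = 1 from Subtype.ext (hS.sq_one e e.2),
        QuotientGroup.mk_one]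
  haveI := hroots.of_dvd ℤ hexp
  obtain ⟨ψ, hψ⟩ := CommGroup.exists_apply_ne_one_of_hasEnoughRootsOfUnity (E ⧸ f.range) ℤ hv
  set φ : E →* ℤˣ := ψ.comp (QuotientGroup.mk' f.range) with hφ
  have hφ1 : φ ≠ 1 := fun e => hψ (by
    rw [show ψ ((v : E) : E ⧸ f.range) = φ v from rfl, e]; rfl)
  apply hx
  refine mem_subgroupOf.1 ((hC.count h hA hw hwK hw1).2 φ hφ1 ((hS.signQuad φ).mem_radical.2 fun u => ?_))
  rw [hS.polar_signMap]
  have : φ ⟨⁅x, u⁆, hS.comm_mem x u⟩ = 1 := by
    show ψ ((f u : E) : E ⧸ f.range) = 1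
    rw [(QuotientGroup.eq_one_iff (N := f.range) (f u)).2 (MonoidHom.mem_range.2 ⟨u, rfl⟩), map_one]
  rw [this, Units.val_one]

/-- A non-trivial odd element of `C(U)` fixes only `U`. -/
theorem Crit.fixed_mem (h : Hyp G) (hC : Crit C) {w : G} (hw : Odd (orderOf w))
    (hwK : w ∈ centralizer (invSubgroup G : Set G)) (hw1 : w ≠ 1) {c : G} (hc : c ∈ C)
    (hwc : w * c = c * w) : c ∈ invSubgroup G := by
  classical
  haveI : Fact (Nat.Prime 2) := ⟨Nat.prime_two⟩
  haveI := hC.normal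
  have hA := hC.center_eq h hw hwK hw1
  have hS := hC.squaresIn hA
  set U := invSubgroup G with hU
  have hUC : U ≤ C := hA ▸ inf_le_left
  set A' := zpowers w with hA'
  have hcop : ∀ D : Subgroup G, D ≤ pCore 2 G → (Nat.card A').Coprime (Nat.card D) := by
    intro D hD
    obtain ⟨b, hb⟩ := IsPGroup.iff_card.1 ((PSolvable.pCore_isPGroup (p := 2) (G := G)).to_le hD)
    rw [hA', Nat.card_zpowers, hb]
    exact Nat.Coprime.pow_right b (Nat.coprime_two_right.2 hw)
  have hAC : A' ≤ normalizer (C : Set G) := fun g _ => by rw [normalizer_eq_top]; exact mem_top g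
  set C₁ := ⁅C, A'⁆ ⊔ U with hC₁
  set C₂ := C ⊓ centralizer (A' : Set G) with hC₂
  have hC₁C : C₁ ≤ C := sup_le (Coprime.commutator_le_of_le_normalizer hAC) hUC
  have hvU : ∀ v ∈ A', ∀ k ∈ U, v * k = k * v := fun v hv k hk => by
    obtain ⟨i, rfl⟩ := hv
    exact ((show Commute w k from (mem_centralizer_iff.1 hwK k hk).symm).zpow_left i).eq
  -- the two pieces commute
  have hcom : ∀ a ∈ C₂, ∀ b ∈ C₁, a * b = b * a := by
    intro a ha
    suffices C₁ ≤ centralizer ({a} : Set G) from fun b hb =>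
      mem_centralizer_singleton_iff.1 (this hb) |>.symm
    refine sup_le ?_ (fun k hk => mem_centralizer_singleton_iff.2
      (hk.2.1 a (hC.le_core ha.1)).symm)
    rw [commutator_le]
    intro c' hc' v hv
    rw [mem_centralizer_singleton_iff]
    have hk : a * c' * a⁻¹ * c'⁻¹ ∈ U := by
      rw [← hA]; exact hC.comm_mem a ha.1 c' (hC.le_core hc')
    set k := a * c' * a⁻¹ * c'⁻¹ with hkdef
    have hva : v * a = a * v := mem_centralizer_iff.1 ha.2 v hv
    have hkc : Commute k c' := (hk.2.1 c' (hC.le_core hc')).symm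
    have hkv : Commute v k := hvU v hv k hk
    have h1 : a * c' = k * c' * a := by rw [hkdef]; group
    have h2 : a * c'⁻¹ = k⁻¹ * c'⁻¹ * a := by
      have h3 : c' * a = k⁻¹ * (a * c') := by rw [h1]; group
      calc a * c'⁻¹ = c'⁻¹ * (c' * a) * c'⁻¹ := by group
        _ = c'⁻¹ * k⁻¹ * a := by rw [h3]; group
        _ = k⁻¹ * c'⁻¹ * a := by rw [hkc.inv_left.inv_right.eq]
    symm
    calc a * ⁅c', v⁆ = (a * c') * v * c'⁻¹ * v⁻¹ := by rw [commutatorElement_def]; group
      _ = k * c' * (a * v) * c'⁻¹ * v⁻¹ := by rw [h1]; group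
      _ = k * c' * (v * a) * c'⁻¹ * v⁻¹ := by rw [hva]
      _ = k * c' * v * (a * c'⁻¹) * v⁻¹ := by group
      _ = k * c' * v * (k⁻¹ * c'⁻¹ * a) * v⁻¹ := by rw [h2]
      _ = k * c' * (v * k⁻¹) * c'⁻¹ * (a * v⁻¹) := by group
      _ = k * c' * (k⁻¹ * v) * c'⁻¹ * (v⁻¹ * a) := by
          rw [hkv.inv_right.eq, ((show Commute a v from hva.symm).inv_right).eq]
      _ = (k * c' * k⁻¹) * v * c'⁻¹ * v⁻¹ * a := by group
      _ = ⁅c', v⁆ * a := by rw [hkc.eq, mul_inv_cancel_right, commutatorElement_def]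
  have hsplit : ∀ y ∈ C, ∃ b ∈ C₁, ∃ a ∈ C₂, y = b * a := by
    intro y hy
    obtain ⟨d, hd, a, ha, he⟩ := Coprime.mem_commutator_mul_centralizer hAC
      (hcop _ ((Coprime.commutator_le_of_le_normalizer hAC).trans hC.le_core))
      (Or.inl inferInstance) hy
    exact ⟨d, mem_sup_left hd, a, ha, he⟩
  have hUC₁ : U ≤ C₁ := le_sup_right
  have hUC₂ : U ≤ C₂ := fun k hk => ⟨hUC hk, mem_centralizer_iff.2 fun v hv => hvU v hv k hk⟩
  -- the lower bound
  have hlow : ∀ D D' : Subgroup G, U ≤ D → D ≤ C → (∀ a ∈ D', ∀ b ∈ D, a * b = b * a) → D' ≤ C →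
      (∀ y ∈ C, ∃ b ∈ D, ∃ a ∈ D', y = b * a) → D ≠ U →
      2 * Nat.card U ^ 2 ≤ Nat.card D := by
    intro D D' hUD hDC hcomm hD'C hspl hne
    obtain ⟨x, hxD, hxU⟩ := SetLike.exists_of_lt (lt_of_le_of_ne hUD (Ne.symm hne))
    set E := U.subgroupOf C
    let f : D →* E := MonoidHom.mk'
      (fun y => ⟨⁅(⟨x, hDC hxD⟩ : C), (⟨y, hDC y.2⟩ : C)⁆, hS.comm_mem _ _⟩)
      fun a b => Subtype.ext (hS.comm_mul_right (⟨x, hDC hxD⟩ : C) ⟨a, hDC a.2⟩ ⟨b, hDC b.2⟩)
    have hsurj : Function.Surjective f := by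
      intro v
      obtain ⟨⟨y, hy⟩, hyv⟩ := hC.comm_surj h hA hw hwK hw1 (x := ⟨x, hDC hxD⟩) hxU v
      obtain ⟨b, hb, a, ha, rfl⟩ := hspl y hy
      refine ⟨⟨b, hb⟩, Subtype.ext ?_⟩
      have h1 : (⟨b * a, hy⟩ : C) = (⟨b, hDC hb⟩ : C) * ⟨a, hD'C ha⟩ := rfl
      rw [h1, hS.comm_mul_right, commutatorElement_eq_one_iff_mul_comm.2
        (show (⟨x, hDC hxD⟩ : C) * ⟨a, hD'C ha⟩ = ⟨a, hD'C ha⟩ * ⟨x, hDC hxD⟩ from
          Subtype.ext (hcomm a ha x hxD).symm), mul_one] at hyv
      exact hyv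
    have hlt : U.subgroupOf D < f.ker := by
      refine lt_of_le_of_ne (fun k hk => ?_) fun e => ?_
      · refine MonoidHom.mem_ker.2 (Subtype.ext (commutatorElement_eq_one_iff_mul_comm.2
          (Subtype.ext ?_)))
        exact (mem_subgroupOf.1 hk).2.1 x (hC.le_core (hDC hxD))
      · apply hxU
        have : (⟨x, hxD⟩ : D) ∈ U.subgroupOf D :=
          e ▸ MonoidHom.mem_ker.2 (Subtype.ext (commutatorElement_self _))
        exact mem_subgroupOf.1 this
    have h1 : Nat.card f.ker * Nat.card E = Nat.card D := by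
      rw [← f.ker.card_mul_index, index_ker, MonoidHom.range_eq_top.2 hsurj, card_top]
    have h2 : Nat.card (U.subgroupOf D) = Nat.card U :=
      Nat.card_congr (subgroupOfEquivOfLe hUD).toEquiv
    have h3 : 2 * Nat.card U ≤ Nat.card f.ker := by
      obtain ⟨q, hq⟩ := Subgroup.card_dvd_of_le hlt.le
      rw [h2] at hq
      rcases q with - | - | q
      · exact absurd hq (by rw [mul_zero]; exact Nat.card_pos.ne')
      · exact absurd (Subgroup.eq_of_le_of_card_ge hlt.le (by rw [hq, h2]; simp)) hlt.ne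
      · rw [hq, mul_comm 2]; exact Nat.mul_le_mul_left _ (by omega)
    rw [← h1, Nat.card_congr (subgroupOfEquivOfLe hUC).toEquiv, sq, ← mul_assoc]
    exact Nat.mul_le_mul_right _ h3
  by_contra hcU
  have hne₂ : C₂ ≠ U := fun e => hcU (e ▸ (⟨hc, mem_centralizer_iff.2 fun v hv => by
    obtain ⟨i, rfl⟩ := hv
    exact ((show Commute w c from hwc).zpow_left i).eq⟩ : c ∈ C₂))
  by_cases hne₁ : C₁ = U
  · refine hw1 (hC.eq_one_of_commute h hw fun y hy => ?_)
    have h1 : w * y * w⁻¹ * y⁻¹ ∈ U := by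
      rw [← hne₁, show w * y * w⁻¹ * y⁻¹ = (⁅y, w⁆)⁻¹ by rw [commutatorElement_def]; group]
      exact inv_mem (mem_sup_left (commutator_mem_commutator hy (mem_zpowers w)))
    exact commute_of_shift hw (hvU w (mem_zpowers w) _ h1)
      ⟨1, by rw [pow_one]; exact invSubgroup_sq h1⟩ (by group)
  have l1 := hlow C₁ C₂ hUC₁ hC₁C hcom inf_le_left hsplit hne₁
  have l2 := hlow C₂ C₁ hUC₂ inf_le_left (fun a ha b hb => (hcom b hb a ha).symm) hC₁C
    (fun y hy => by
      obtain ⟨b, hb, a, ha, rfl⟩ := hsplit y hy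
      exact ⟨a, ha, b, hb, (hcom a ha b hb).symm⟩) hne₂
  -- the upper bound
  have hinf : C₁ ⊓ C₂ ≤ U := by
    rintro y ⟨hy1, hy2⟩
    rw [← hA]
    refine ⟨hy2.1, mem_centralizer_iff.2 fun z hz => ?_⟩
    obtain ⟨b, hb, a, ha, rfl⟩ := hsplit z hz
    exact (((show Commute b y from (hcom y hy2 b hb).symm)).mul_left
      (show Commute a y from hcom a ha y hy1)).eq
  have h4 : Nat.card C₁ * Nat.card C₂ ≤ Nat.card U * Nat.card C := by
    have e1 : Nat.card (C₁ ⊓ C₂ : Subgroup G) * C₂.relIndex C₁ = Nat.card C₁ := by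
      rw [← inf_relIndex_left]
      exact PSolvable.card_mul_relIndex inf_le_left
    have e2 : Nat.card C₂ * C₂.relIndex C = Nat.card C := PSolvable.card_mul_relIndex inf_le_left
    have e3 : C₂.relIndex C₁ ≤ C₂.relIndex C :=
      relIndex_le_of_le_right hC₁C (by
        intro e; rw [e, mul_zero] at e2; exact Nat.card_pos.ne' e2.symm)
    have e4 : Nat.card (C₁ ⊓ C₂ : Subgroup G) ≤ Nat.card U :=
      Nat.le_of_dvd Nat.card_pos (card_dvd_of_le hinf)
    calc Nat.card C₁ * Nat.card C₂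
        = Nat.card (C₁ ⊓ C₂ : Subgroup G) * (Nat.card C₂ * C₂.relIndex C₁) := by rw [← e1]; ring
      _ ≤ Nat.card U * (Nat.card C₂ * C₂.relIndex C) :=
          Nat.mul_le_mul e4 (Nat.mul_le_mul_left _ e3)
      _ = _ := by rw [e2]
  rw [(hC.count h hA hw hwK hw1).1] at h4
  have h5 : 2 * Nat.card U ^ 2 * (2 * Nat.card U ^ 2) ≤ Nat.card C₁ * Nat.card C₂ := Nat.mul_le_mul l1 l2
  rw [show 2 * Nat.card U ^ 2 * (2 * Nat.card U ^ 2) = 4 * Nat.card U ^ 4 by ring] at h5
  rw [show Nat.card U * Nat.card U ^ 3 = Nat.card U ^ 4 by ring] at h4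
  have h6 : 0 < Nat.card U ^ 4 := pow_pos Nat.card_pos 4
  omega

end Cfsg.Agent.Lib.InvolutionsConj
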