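import Mathlib

/-!
An abelian 2-group whose automorphisms are transitive on involutions is homocyclic.
-/

set_option autoImplicit false
set_option linter.style.haveILetI false

namespace Cfsg.Agent.Lib.InvolutionsConj

theorem exists_homocyclic_equiv {A : Type*} [CommGroup A] [Finite A] (h2 : IsPGroup 2 A)
    (htrans : ∀ x y : A, x ≠ 1 → x ^ 2 = 1 → y ≠ 1 → y ^ 2 = 1 → ∃ a : MulAut A, a x = y) :
    ∃ m r : ℕ, Nonempty (A ≃* (Fin r → Multiplicative (ZMod (2 ^ m)))) := by
  classical
  obtain ⟨ι, hι, n, hn1, ⟨e⟩⟩ := CommGroup.equiv_prod_multiplicative_zmod_of_finite A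
  haveI : ∀ i, NeZero (n i) := fun i => ⟨by have := hn1 i; omega⟩
  let g : (i : ι) → A := fun i =>
    e.symm (Pi.mulSingle i (Multiplicative.ofAdd (1 : ZMod (n i))))
  have hg : ∀ i, orderOf (g i) = n i := by
    intro i
    rw [MulEquiv.orderOf_eq, orderOf_piMulSingle, orderOf_ofAdd_eq_addOrderOf, ZMod.addOrderOf_one]
  have hpow : ∀ i, ∃ m, n i = 2 ^ m ∧ 1 ≤ m := by
    intro i
    obtain ⟨m, hm⟩ := IsPGroup.iff_orderOf.1 h2 (g i)
    rw [hg] at hm
    refine ⟨m, hm, ?_⟩
    rcases m with - | m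
    · have := hn1 i; rw [hm, pow_zero] at this; omega
    · omega
  choose m hm hm1 using hpow
  -- the involution of the `i`-th factor
  let v : ι → A := fun i => g i ^ 2 ^ (m i - 1)
  have hv2 : ∀ i, v i ^ 2 = 1 := fun i => by
    rw [← pow_mul, ← pow_succ, show m i - 1 + 1 = m i by have := hm1 i; omega, ← hm, ← hg,
      pow_orderOf_eq_one]
  have hv1 : ∀ i, v i ≠ 1 := fun i e1 => by
    have h := orderOf_dvd_of_pow_eq_one e1
    rw [hg, hm] at h
    have := (Nat.pow_dvd_pow_iff_le_right one_lt_two).1 h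
    have := hm1 i
    omega
  have hle : ∀ i j, m i ≤ m j := by
    intro i j
    by_contra hlt
    obtain ⟨a, ha⟩ := htrans (v i) (v j) (hv1 i) (hv2 i) (hv1 j) (hv2 j)
    apply hv1 j
    have h1 : e (v j) j = 1 := by
      rw [← ha, map_pow, map_pow, Pi.pow_apply, ← orderOf_dvd_iff_pow_eq_one]
      have h2 : orderOf (e (a (g i)) j) ∣ n j := by
        have h3 := orderOf_dvd_natCard (e (a (g i)) j)
        rwa [Nat.card_congr (Multiplicative.toAdd (α := ZMod (n j))), Nat.card_zmod] at h3
      exact h2.trans (hm j ▸ pow_dvd_pow 2 (by omega))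
    have h4 : e (v j) = Pi.mulSingle j (e (v j) j) := by
      funext k
      rcases eq_or_ne k j with rfl | hk
      · rw [Pi.mulSingle_eq_same]
      · rw [map_pow, Pi.pow_apply, MulEquiv.apply_symm_apply, Pi.mulSingle_eq_of_ne hk,
          Pi.mulSingle_eq_of_ne hk, one_pow]
    rw [h1, Pi.mulSingle_one] at h4
    exact e.map_eq_one_iff.1 h4
  rcases isEmpty_or_nonempty ι with hi | hi
  · haveI : Subsingleton A := e.toEquiv.subsingleton
    exact ⟨0, 0, ⟨{ toFun := fun _ => 1, invFun := fun _ => 1,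
                    left_inv := fun _ => Subsingleton.elim _ _,
                    right_inv := fun _ => Subsingleton.elim _ _,
                    map_mul' := fun _ _ => Subsingleton.elim _ _ }⟩⟩
  · obtain ⟨i₀⟩ := hi
    have hn : n = fun _ => 2 ^ m i₀ := funext fun i => by
      rw [hm i, le_antisymm (hle i i₀) (hle i₀ i)]
    subst hn
    exact ⟨m i₀, Fintype.card ι,
      ⟨e.trans (MulEquiv.arrowCongr (Fintype.equivFin ι) (MulEquiv.refl _))⟩⟩

end Cfsg.Agent.Lib.InvolutionsConj
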