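import Cfsg.Agent.Lib.InvolutionsConj.Fixed

/-!
In a solvable group with `O(G) = 1` and one class of at least two involutions, `O_2(G)` is a Sylow
2-subgroup.
-/

set_option autoImplicit false
set_option linter.unusedSectionVars false
set_option linter.style.haveILetI false
set_option maxHeartbeats 400000

namespace Cfsg.Agent.Lib.InvolutionsConj

open Cfsg Subgroup
open Cfsg.Agent.Lib.TwoSquaring
open scoped commutatorElement

universe u

variable {G : Type u} [Group G] [Finite G]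

/-- Every element whose image commutes modulo `O_2(G)` with a non-trivial odd element of `C(U)` and
has square in `O_2(G)` lies in `O_2(G)`. -/
theorem mem_pCore_of_commutator (h : Hyp G) {x w : G}
    (hxK : x ∈ centralizer (invSubgroup G : Set G)) (hx2 : x ^ 2 ∈ pCore 2 G)
    (hw : Odd (orderOf w)) (hwK : w ∈ centralizer (invSubgroup G : Set G)) (hw1 : w ≠ 1)
    (hxw : w * x * w⁻¹ * x⁻¹ ∈ pCore 2 G) : x ∈ pCore 2 G := by
  haveI : Fact (Nat.Prime 2) := ⟨Nat.prime_two⟩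
  obtain ⟨C, hC⟩ := exists_crit (G := G)
  haveI := hC.normal
  have hA := hC.center_eq h hw hwK hw1
  have hS := hC.squaresIn hA
  have hn : C.Normal := hC.normal
  -- rules for commutators in `C`
  have hbil : ∀ {a b c : G}, a ∈ C → b ∈ C → c ∈ C → ⁅a * b, c⁆ = ⁅a, c⁆ * ⁅b, c⁆ :=
    fun ha hb hc => congrArg Subtype.val
      (hS.comm_mul_left (⟨_, ha⟩ : C) ⟨_, hb⟩ ⟨_, hc⟩)
  have hbir : ∀ {a b c : G}, a ∈ C → b ∈ C → c ∈ C → ⁅a, b * c⁆ = ⁅a, b⁆ * ⁅a, c⁆ :=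
    fun ha hb hc => congrArg Subtype.val
      (hS.comm_mul_right (⟨_, ha⟩ : C) ⟨_, hb⟩ ⟨_, hc⟩)
  have hmem : ∀ {a b : G}, a ∈ C → b ∈ C → ⁅a, b⁆ ∈ invSubgroup G :=
    fun ha hb => hA ▸ hC.comm_mem _ ha _ (hC.le_core hb)
  have hcentral : ∀ {k c : G}, k ∈ invSubgroup G → c ∈ C → c * k = k * c :=
    fun hk hc => hk.2.1 _ (hC.le_core hc)
  have hsq : ∀ {k : G}, k ∈ invSubgroup G → k * k = 1 :=
    fun hk => (sq _).symm.trans (invSubgroup_sq hk)
  have hinv : ∀ {a c : G}, a ∈ C → c ∈ C → ⁅a⁻¹, c⁆ = ⁅a, c⁆ := fun {a c} ha hc => by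
    have h1 := hbil ha (inv_mem ha) hc
    rw [mul_inv_cancel, commutatorElement_one_left] at h1
    exact mul_left_cancel (h1.symm.trans (hsq (hmem ha hc)).symm)
  have hinvr : ∀ {a c : G}, a ∈ C → c ∈ C → ⁅a, c⁻¹⁆ = ⁅a, c⁆ := fun {a c} ha hc => by
    have h1 := hbir ha hc (inv_mem hc)
    rw [mul_inv_cancel, commutatorElement_one_right] at h1
    exact mul_left_cancel (h1.symm.trans (hsq (hmem ha hc)).symm)
  have hUC : invSubgroup G ≤ C := hA ▸ inf_le_left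
  have hKfix : ∀ {g k : G}, g ∈ centralizer (invSubgroup G : Set G) → k ∈ invSubgroup G →
      g * k * g⁻¹ = k := fun hg hk => by
    rw [← mem_centralizer_iff.1 hg _ hk, mul_inv_cancel_right]
  -- elements of `O_2(G)` act trivially modulo `U`
  have hT : ∀ {t c : G}, t ∈ pCore 2 G → c ∈ C →
      ∃ k ∈ invSubgroup G, t * c * t⁻¹ = k * c := by
    intro t c ht hc
    refine ⟨t * c * t⁻¹ * c⁻¹, ?_, by group⟩
    rw [← hA, show t * c * t⁻¹ * c⁻¹ = (c * t * c⁻¹ * t⁻¹)⁻¹ by group]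
    exact inv_mem (hC.comm_mem c hc t ht)
  -- the displacements
  let d : G → G := fun c => c⁻¹ * (x * c * x⁻¹)
  have hdC : ∀ {c : G}, c ∈ C → d c ∈ C := fun hc => mul_mem (inv_mem hc) (hn.conj_mem _ hc x)
  have hdcomm : ∀ {c c' : G}, c ∈ C → c' ∈ C → ⁅d c, d c'⁆ = 1 := by
    intro c c' hc hc'
    have hxc := hn.conj_mem c hc x
    have hxc' := hn.conj_mem c' hc' x
    have hconj : ∀ {a b : G}, a ∈ C → b ∈ C → ⁅x * a * x⁻¹, x * b * x⁻¹⁆ = ⁅a, b⁆ := by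
      intro a b ha hb
      rw [← conjugate_commutatorElement]
      exact hKfix hxK (hmem ha hb)
    have hflip : ⁅x * c * x⁻¹, c'⁆ = ⁅c, x * c' * x⁻¹⁆ := by
      obtain ⟨k, hk, hk'⟩ := hT hx2 hc
      rw [← hconj hxc hc', show x * (x * c * x⁻¹) * x⁻¹ = x ^ 2 * c * (x ^ 2)⁻¹ by rw [sq]; group, hk',
        hbil (hUC hk) hc hxc',
        commutatorElement_eq_one_iff_mul_comm.2 (hcentral hk hxc').symm, one_mul]
    show ⁅c⁻¹ * (x * c * x⁻¹), c'⁻¹ * (x * c' * x⁻¹)⁆ = 1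
    rw [hbil (inv_mem hc) hxc (hdC hc'), hbir (inv_mem hc) (inv_mem hc') hxc',
      hbir hxc (inv_mem hc') hxc', hinv hc (inv_mem hc'), hinvr hc hc', hinv hc hxc',
      hinvr hxc hc', hflip, hconj hc hc']
    have h1 := hsq (hmem hc hc')
    have h2 := hsq (hmem hc hxc')
    calc ⁅c, c'⁆ * ⁅c, x * c' * x⁻¹⁆ * (⁅c, x * c' * x⁻¹⁆ * ⁅c, c'⁆)
        = ⁅c, c'⁆ * (⁅c, x * c' * x⁻¹⁆ * ⁅c, x * c' * x⁻¹⁆) * ⁅c, c'⁆ := by group
      _ = 1 := by rw [h2, mul_one, h1]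
  have hd2 : ∀ {c : G}, c ∈ C → d c ^ 2 ∈ invSubgroup G := fun {c} hc =>
    hA ▸ hC.sq_mem _ (hdC hc)
  -- `w` fixes every displacement
  have hdU : ∀ c ∈ C, d c ∈ invSubgroup G := by
    intro c hc
    have hwc := hn.conj_mem c hc w
    obtain ⟨k, hk, hk'⟩ : ∃ k ∈ invSubgroup G, w * d c * w⁻¹ = k * d (w * c * w⁻¹) := by
      obtain ⟨k, hk, hk'⟩ := hT hxw (hn.conj_mem _ hwc x)
      refine ⟨k, hk, ?_⟩
      show w * (c⁻¹ * (x * c * x⁻¹)) * w⁻¹ =
        k * ((w * c * w⁻¹)⁻¹ * (x * (w * c * w⁻¹) * x⁻¹))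
      rw [← mul_assoc k, ← hcentral hk (inv_mem hwc), mul_assoc (w * c * w⁻¹)⁻¹ k, ← hk']
      group
    have hcomm : Commute (d c) (w * d c * w⁻¹) := by
      rw [hk']
      exact Commute.mul_right (hcentral hk (hdC hc))
        (commutatorElement_eq_one_iff_mul_comm.1 (hdcomm hc hwc))
    have hsq' : (w * d c * w⁻¹ * (d c)⁻¹) ^ 2 = 1 := by
      rw [(hcomm.symm.inv_right).mul_pow, conj_pow, hKfix hwK (hd2 hc), inv_pow, mul_inv_cancel]
    have hu := mem_of_sq h hsq'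
    have := commute_of_shift hw (mem_centralizer_iff.1 hwK _ hu).symm ⟨1, by rwa [pow_one]⟩
      (show w * d c * w⁻¹ = w * d c * w⁻¹ * (d c)⁻¹ * d c by group)
    exact hC.fixed_mem h hw hwK hw1 (hdC hc) this
  -- the elements of `C(U)` acting trivially on `C / U` form a 2-group
  let L : Subgroup G :=
    { carrier := {g | g ∈ centralizer (invSubgroup G : Set G) ∧
        ∀ c ∈ C, c⁻¹ * (g * c * g⁻¹) ∈ invSubgroup G}
      one_mem' := ⟨one_mem _, fun c _ => by simp⟩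
      mul_mem' := fun {a b} ha hb => ⟨mul_mem ha.1 hb.1, fun c hc => by
        rw [show c⁻¹ * (a * b * c * (a * b)⁻¹) =
          c⁻¹ * (a * c * a⁻¹) * (a * (c⁻¹ * (b * c * b⁻¹)) * a⁻¹) by group, hKfix ha.1 (hb.2 c hc)]
        exact mul_mem (ha.2 c hc) (hb.2 c hc)⟩
      inv_mem' := fun {a} ha => ⟨inv_mem ha.1, fun c hc => by
        have h1 := ha.2 _ (hn.conj_mem c hc a⁻¹)
        rw [show (a⁻¹ * c * a⁻¹⁻¹)⁻¹ * (a * (a⁻¹ * c * a⁻¹⁻¹) * a⁻¹) =
          (c⁻¹ * (a⁻¹ * c * a⁻¹⁻¹))⁻¹ by group] at h1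
        · exact inv_mem_iff.1 h1⟩ }
  haveI : L.Normal := ⟨fun g hg y => ⟨(inferInstance :
      (centralizer (invSubgroup G : Set G)).Normal).conj_mem g hg.1 y, fun c hc => by
    have h1 := (invSubgroup_normal (G := G)).conj_mem _ (hg.2 _ (hn.conj_mem c hc y⁻¹)) y
    rw [show c⁻¹ * (y * g * y⁻¹ * c * (y * g * y⁻¹)⁻¹) = y * ((y⁻¹ * c * y⁻¹⁻¹)⁻¹ *
      (g * (y⁻¹ * c * y⁻¹⁻¹) * g⁻¹)) * y⁻¹ by group]
    exact h1⟩⟩
  have hL : IsPGroup 2 L := by
    intro g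
    obtain ⟨a, m, hm, hgm⟩ := Nat.exists_eq_two_pow_mul_odd (orderOf_pos (g : G)).ne'
    refine ⟨a, Subtype.ext ?_⟩
    rw [Subgroup.coe_pow, Subgroup.coe_one]
    have hgL : (g : G) ^ 2 ^ a ∈ L := pow_mem g.2 _
    have hodd : Odd (orderOf ((g : G) ^ 2 ^ a)) := by
      rw [orderOf_pow, hgm, Nat.gcd_eq_right (dvd_mul_right _ _),
        Nat.mul_div_cancel_left _ (Nat.two_pow_pos a)]
      exact hm
    refine hC.eq_one_of_commute h hodd fun c hc => ?_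
    set v := (g : G) ^ 2 ^ a
    have hk := hgL.2 c hc
    refine commute_of_shift hodd (mem_centralizer_iff.1 hgL.1 _ hk).symm
      ⟨1, by rw [pow_one]; exact invSubgroup_sq hk⟩ ?_
    rw [← hcentral hk hc, mul_inv_cancel_left]
  exact PSolvable.le_pCore hL ⟨hxK, hdU⟩

/-- `O_2(G)` contains every Sylow 2-subgroup. -/
theorem sylow_le_pCore (h : Hyp G) (S : Sylow 2 G) : (S : Subgroup G) ≤ pCore 2 G := by
  classical
  haveI : Fact (Nat.Prime 2) := ⟨Nat.prime_two⟩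
  haveI := h.solv
  haveI : (pCore 2 G).Characteristic := PSolvable.pCore_characteristic
  haveI : (pCore 2 G).Normal := inferInstance
  obtain ⟨hSK, p, hp, hp2, P, hP, hPS, hfpf⟩ := exists_fpf h S
  haveI : Fact p.Prime := ⟨hp⟩
  set T := pCore 2 G with hT
  set K := centralizer (invSubgroup G : Set G) with hK
  haveI : K.Normal := inferInstance
  set π := QuotientGroup.mk' T with hπ
  have hTS : T ≤ S := PSolvable.pCore_le_sylow S
  by_contra hST
  set Sb := (S : Subgroup G).map π with hSb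
  have hSbne : Sb ≠ ⊥ := by
    rw [hSb, Ne, Subgroup.map_eq_bot_iff, QuotientGroup.ker_mk']
    exact hST
  have hKne : K.map π ≠ ⊥ := fun e => hSbne (le_bot_iff.1 (e ▸ map_mono hSK))
  obtain ⟨M, hM, hMne, hMle, hmin⟩ := MinimalNormal.exists_minimal_normal_le
    ((inferInstance : K.Normal).map π (QuotientGroup.mk'_surjective T)) hKne
  haveI := hM
  obtain ⟨hMc, q, hq, hpow⟩ := MinimalNormal.elementaryAbelian M hMne hmin
  have hq2 : q ≠ 2 := by
    rintro rfl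
    refine hMne (le_bot_iff.1 ?_)
    rw [← PSolvable.pCore_quotient_eq_bot (p := 2) (G := G)]
    exact PSolvable.le_pCore fun m => ⟨1, Subtype.ext (by rw [pow_one]; exact hpow m m.2)⟩
  have hcast : ∀ {m : G ⧸ T}, m ∈ M → m ^ 2 = 1 → m = 1 := fun hm h2 =>
    eq_one_of_coprime_pow ((Nat.coprime_primes hq Nat.prime_two).2 hq2) (hpow _ hm) h2
  -- an involution of `S̄` fixes nothing in `M`
  have hinv : ∀ {z : G ⧸ T}, z ∈ Sb → z ^ 2 = 1 → z ≠ 1 → ∀ m ∈ M, z * m * z⁻¹ = m → m = 1 := by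
    intro z hz hz2 hz1 m hm hzm
    by_contra hm1
    obtain ⟨x, hx, rfl⟩ := hz
    obtain ⟨w₀, hw₀, rfl⟩ := hMle hm
    obtain ⟨a, b, hb, hab⟩ := Nat.exists_eq_two_pow_mul_odd (orderOf_pos w₀).ne'
    set w := w₀ ^ 2 ^ a with hw
    have hwodd : Odd (orderOf w) := by
      rw [hw, orderOf_pow, hab, Nat.gcd_eq_right (dvd_mul_right _ _),
        Nat.mul_div_cancel_left _ (Nat.two_pow_pos a)]
      exact hb
    have hπw : π w ≠ 1 := by
      intro e
      rw [hw, map_pow] at e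
      exact hm1 (eq_one_of_coprime_pow
        (Nat.Coprime.pow_right a ((Nat.coprime_primes hq Nat.prime_two).2 hq2)) (hpow _ hm) e)
    apply hz1
    rw [hπ, QuotientGroup.mk'_apply, QuotientGroup.eq_one_iff]
    refine mem_pCore_of_commutator h (hSK hx) ?_ hwodd (pow_mem hw₀ _)
      (fun e => hπw (by rw [e, map_one])) ?_
    · rw [← QuotientGroup.eq_one_iff, QuotientGroup.mk_pow]
      exact hz2
    · rw [← QuotientGroup.eq_one_iff]
      show π (w * x * w⁻¹ * x⁻¹) = 1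
      have hc : Commute (π x) (π w₀) := mul_inv_eq_iff_eq_mul.1 hzm
      have hc' : Commute (π x) (π w) := by rw [hw, map_pow]; exact hc.pow_right _
      simp only [map_mul, map_inv]
      rw [hc'.symm.eq, mul_inv_cancel_right, mul_inv_cancel]
  -- commuting involutions of `S̄` coincide
  have hpair : ∀ {a b : G ⧸ T}, a ∈ Sb → a ^ 2 = 1 → a ≠ 1 → b ∈ Sb → b ^ 2 = 1 → b ≠ 1 →
      Commute a b → a = b := by
    intro a b ha ha2 ha1 hb hb2 hb1 hab
    have hneg : ∀ {z : G ⧸ T}, z ∈ Sb → z ^ 2 = 1 → z ≠ 1 → ∀ m ∈ M, z * m * z⁻¹ = m⁻¹ := by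
      intro z hz hz2 hz1 m hm
      have hzm := hM.conj_mem m hm z
      have hcm : (z * m * z⁻¹) * m = m * (z * m * z⁻¹) :=
        congrArg Subtype.val (hMc.is_comm.comm (⟨_, hzm⟩ : M) ⟨m, hm⟩)
      refine eq_inv_of_mul_eq_one_left (hinv hz hz2 hz1 _ (mul_mem hzm hm) ?_)
      calc z * (z * m * z⁻¹ * m) * z⁻¹ = z ^ 2 * m * (z ^ 2)⁻¹ * (z * m * z⁻¹) := by rw [sq]; group
        _ = z * m * z⁻¹ * m := by rw [hz2, one_mul, inv_one, mul_one, hcm]
    by_contra hne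
    apply hMne
    rw [eq_bot_iff]
    intro m hm
    have hab2 : (a * b) ^ 2 = 1 := by rw [hab.mul_pow, ha2, hb2, one_mul]
    have hab1 : a * b ≠ 1 := fun e => hne (by
      rw [eq_inv_of_mul_eq_one_left e]
      exact inv_eq_iff_mul_eq_one.2 (by rwa [← sq]))
    refine mem_bot.2 (hinv (mul_mem ha hb) hab2 hab1 m hm ?_)
    calc a * b * m * (a * b)⁻¹ = a * (b * m * b⁻¹) * a⁻¹ := by group
      _ = (a * m * a⁻¹)⁻¹ := by rw [hneg hb hb2 hb1 m hm]; group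
      _ = m := by rw [hneg ha ha2 ha1 m hm, inv_inv]
  -- the unique involution of `S̄`
  have hSb2 : IsPGroup 2 Sb := S.2.map π
  haveI : Nontrivial Sb := (Subgroup.nontrivial_iff_ne_bot _).2 hSbne
  haveI := hSb2.center_nontrivial
  obtain ⟨n, hn0, hn⟩ := (hSb2.to_subgroup (center Sb)).nontrivial_iff_card.mp inferInstance
  obtain ⟨z₀, hz₀⟩ := exists_prime_orderOf_dvd_card' (G := center Sb) 2
    (hn ▸ dvd_pow_self 2 hn0.ne')
  set z : G ⧸ T := ((z₀ : Sb) : G ⧸ T) with hz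
  have hzo : orderOf z = 2 := by rw [hz, orderOf_submonoid, orderOf_submonoid, hz₀]
  have hz2 : z ^ 2 = 1 := by rw [← hzo, pow_orderOf_eq_one]
  have hz1 : z ≠ 1 := fun e => by rw [e, orderOf_one] at hzo; omega
  have hzS : z ∈ Sb := (z₀ : Sb).2
  have huniq : ∀ b ∈ Sb, b ^ 2 = 1 → b ≠ 1 → b = z := fun b hb hb2 hb1 =>
    (hpair hzS hz2 hz1 hb hb2 hb1 (congrArg Subtype.val (mem_center_iff.1 z₀.2 ⟨b, hb⟩)).symm).symm
  -- an element over it fixed by `P`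
  let Ω := {s : G // s ∈ (S : Subgroup G) ∧ π s = z}
  have hact : ∀ g ∈ P, ∀ s : Ω, g * s * g⁻¹ ∈ (S : Subgroup G) ∧ π (g * s * g⁻¹) = z := by
    intro g hg s
    have h1 := (mem_normalizer_iff.1 (hPS hg) s).1 s.2.1
    refine ⟨h1, huniq _ (mem_map_of_mem _ h1) ?_ ?_⟩
    · rw [map_mul, map_mul, map_inv, conj_pow, s.2.2, hz2, mul_one, mul_inv_cancel]
    · rw [map_mul, map_mul, map_inv, s.2.2]
      simpa [mul_inv_eq_one] using hz1
  letI : MulAction P Ω :=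
    { smul := fun g s => ⟨g * s * (g : G)⁻¹, hact g g.2 s⟩
      one_smul := fun s => Subtype.ext (show (1 : G) * s * (1 : G)⁻¹ = s by simp)
      mul_smul := fun a b s => Subtype.ext
        (show ((a : G) * b) * s * ((a : G) * b)⁻¹ = a * (b * s * (b : G)⁻¹) * (a : G)⁻¹ by group) }
  obtain ⟨s₀, hs₀, hs₀z⟩ := hzS
  have e : Ω ≃ T :=
    { toFun := fun s => ⟨s₀⁻¹ * s, (QuotientGroup.eq).1 (hs₀z.trans s.2.2.symm)⟩
      invFun := fun t => ⟨s₀ * t, mul_mem hs₀ (hTS t.2), by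
        rw [map_mul, hs₀z, show π (t : G) = 1 from (QuotientGroup.eq_one_iff _).2 t.2, mul_one]⟩
      left_inv := fun s => Subtype.ext (mul_inv_cancel_left s₀ (s : G))
      right_inv := fun t => Subtype.ext (inv_mul_cancel_left s₀ (t : G)) }
  obtain ⟨k, hk⟩ := IsPGroup.iff_card.1 (PSolvable.pCore_isPGroup (p := 2) (G := G))
  have hndvd : ¬ p ∣ Nat.card Ω := by
    rw [Nat.card_congr e, hT, hk]
    exact fun hd => hp2 ((Nat.prime_dvd_prime_iff_eq hp Nat.prime_two).1 (hp.dvd_of_dvd_pow hd))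
  obtain ⟨s, hs⟩ := hP.nonempty_fixed_point_of_prime_not_dvd_card Ω hndvd
  have hs1 : (s : G) ≠ 1 := fun e => hz1 (by rw [← s.2.2, e, map_one])
  obtain ⟨m, hm⟩ := S.2 ⟨s, s.2.1⟩
  obtain ⟨j, hj1, hjU, -⟩ := exists_involution_pow h hs1 ⟨m, congrArg Subtype.val hm⟩
  exact hj1 (hfpf _ hjU fun a ha =>
    (show Commute a (s : G) from
      mul_inv_eq_iff_eq_mul.1 (congrArg Subtype.val (hs ⟨a, ha⟩))).pow_right _)

end Cfsg.Agent.Lib.InvolutionsConj
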